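import Cfsg.Agent.Helper28.S44A.Data
set_option autoImplicit false
set_option maxRecDepth 1000000
namespace Cfsg.Agent.Helper28.S44A
open Cfsg.Agent.Helper28
theorem defs_piece0 : allLtFrom (defOk tabs) 0 66666 = true := by decide +kernel
theorem defs_piece1 : allLtFrom (defOk tabs) 66666 49564 = true := by decide +kernel
theorem par_piece0 : allLtFrom (parRow ptabs) 0 53333 = true := by decide +kernel
theorem par_piece1 : allLtFrom (parRow ptabs) 53333 4267 = true := by decide +kernel
theorem subfix_ok : allLt (fun r => relOk ptabs (tabs.word r) 0 1) 1 = true := by decide +kernel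
end Cfsg.Agent.Helper28.S44A
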