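import Cfsg.Agent.Helper28.S44A.Data
set_option autoImplicit false
set_option maxRecDepth 1000000
namespace Cfsg.Agent.Helper28.S44A
open Cfsg.Agent.Helper28
theorem perm_piece_5_16 : permPieceF tabs.word letSel 10 1 50784 3174 = true := by decide +kernel
theorem perm_piece_5_17 : permPieceF tabs.word letSel 10 1 53958 3174 = true := by decide +kernel
theorem perm_piece_5_18 : permPieceF tabs.word letSel 10 1 57132 468 = true := by decide +kernel
theorem perm_piece_6_0 : permPieceF tabs.word letSel 11 1 0 5228 = true := by decide +kernel
theorem perm_piece_6_1 : permPieceF tabs.word letSel 11 1 5228 5228 = true := by decide +kernel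
theorem perm_piece_6_2 : permPieceF tabs.word letSel 11 1 10456 5228 = true := by decide +kernel
theorem perm_piece_6_3 : permPieceF tabs.word letSel 11 1 15684 5228 = true := by decide +kernel
theorem perm_piece_6_4 : permPieceF tabs.word letSel 11 1 20912 5228 = true := by decide +kernel
theorem perm_piece_6_5 : permPieceF tabs.word letSel 11 1 26140 5228 = true := by decide +kernel
end Cfsg.Agent.Helper28.S44A
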