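import Cfsg.Agent.Helper28.S44A.Data
set_option autoImplicit false
set_option maxRecDepth 1000000
namespace Cfsg.Agent.Helper28.S44A
open Cfsg.Agent.Helper28
theorem perm_piece_6_6 : permPieceF tabs.word letSel 11 1 31368 5228 = true := by decide +kernel
theorem perm_piece_6_7 : permPieceF tabs.word letSel 11 1 36596 5228 = true := by decide +kernel
theorem perm_piece_6_8 : permPieceF tabs.word letSel 11 1 41824 5228 = true := by decide +kernel
theorem perm_piece_6_9 : permPieceF tabs.word letSel 11 1 47052 5228 = true := by decide +kernel
theorem perm_piece_6_10 : permPieceF tabs.word letSel 11 1 52280 5228 = true := by decide +kernel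
theorem perm_piece_6_11 : permPieceF tabs.word letSel 11 1 57508 92 = true := by decide +kernel
end Cfsg.Agent.Helper28.S44A
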