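import Cfsg.Agent.Helper28.S44A.Data
set_option autoImplicit false
set_option maxRecDepth 1000000
namespace Cfsg.Agent.Helper28.S44A
open Cfsg.Agent.Helper28
theorem perm_piece_2_8 : permPieceF tabs.word letSel 7 1 29624 3703 = true := by decide +kernel
theorem perm_piece_2_9 : permPieceF tabs.word letSel 7 1 33327 3703 = true := by decide +kernel
theorem perm_piece_2_10 : permPieceF tabs.word letSel 7 1 37030 3703 = true := by decide +kernel
theorem perm_piece_2_11 : permPieceF tabs.word letSel 7 1 40733 3703 = true := by decide +kernel
theorem perm_piece_2_12 : permPieceF tabs.word letSel 7 1 44436 3703 = true := by decide +kernel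
theorem perm_piece_2_13 : permPieceF tabs.word letSel 7 1 48139 3703 = true := by decide +kernel
theorem perm_piece_2_14 : permPieceF tabs.word letSel 7 1 51842 3703 = true := by decide +kernel
theorem perm_piece_2_15 : permPieceF tabs.word letSel 7 1 55545 2055 = true := by decide +kernel
theorem perm_piece_3_0 : permPieceF tabs.word letSel 8 1 0 3703 = true := by decide +kernel
end Cfsg.Agent.Helper28.S44A
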