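import Cfsg.Agent.Helper28.S44A.Data
set_option autoImplicit false
set_option maxRecDepth 1000000
namespace Cfsg.Agent.Helper28.S44A
open Cfsg.Agent.Helper28
theorem perm_piece_4_2 : permPieceF tabs.word letSel 9 1 4444 2222 = true := by decide +kernel
theorem perm_piece_4_3 : permPieceF tabs.word letSel 9 1 6666 2222 = true := by decide +kernel
theorem perm_piece_4_4 : permPieceF tabs.word letSel 9 1 8888 2222 = true := by decide +kernel
theorem perm_piece_4_5 : permPieceF tabs.word letSel 9 1 11110 2222 = true := by decide +kernel
theorem perm_piece_4_6 : permPieceF tabs.word letSel 9 1 13332 2222 = true := by decide +kernel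
theorem perm_piece_4_7 : permPieceF tabs.word letSel 9 1 15554 2222 = true := by decide +kernel
theorem perm_piece_4_8 : permPieceF tabs.word letSel 9 1 17776 2222 = true := by decide +kernel
theorem perm_piece_4_9 : permPieceF tabs.word letSel 9 1 19998 2222 = true := by decide +kernel
end Cfsg.Agent.Helper28.S44A
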