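import Cfsg.Agent.Helper28.S44A.Data
set_option autoImplicit false
set_option maxRecDepth 1000000
namespace Cfsg.Agent.Helper28.S44A
open Cfsg.Agent.Helper28
theorem perm_piece_4_10 : permPieceF tabs.word letSel 9 1 22220 2222 = true := by decide +kernel
theorem perm_piece_4_11 : permPieceF tabs.word letSel 9 1 24442 2222 = true := by decide +kernel
theorem perm_piece_4_12 : permPieceF tabs.word letSel 9 1 26664 2222 = true := by decide +kernel
theorem perm_piece_4_13 : permPieceF tabs.word letSel 9 1 28886 2222 = true := by decide +kernel
theorem perm_piece_4_14 : permPieceF tabs.word letSel 9 1 31108 2222 = true := by decide +kernel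
theorem perm_piece_4_15 : permPieceF tabs.word letSel 9 1 33330 2222 = true := by decide +kernel
theorem perm_piece_4_16 : permPieceF tabs.word letSel 9 1 35552 2222 = true := by decide +kernel
theorem perm_piece_4_17 : permPieceF tabs.word letSel 9 1 37774 2222 = true := by decide +kernel
end Cfsg.Agent.Helper28.S44A
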