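import Cfsg.Agent.Helper28.S44A.Data
set_option autoImplicit false
set_option maxRecDepth 1000000
namespace Cfsg.Agent.Helper28.S44A
open Cfsg.Agent.Helper28
theorem perm_piece_4_18 : permPieceF tabs.word letSel 9 1 39996 2222 = true := by decide +kernel
theorem perm_piece_4_19 : permPieceF tabs.word letSel 9 1 42218 2222 = true := by decide +kernel
theorem perm_piece_4_20 : permPieceF tabs.word letSel 9 1 44440 2222 = true := by decide +kernel
theorem perm_piece_4_21 : permPieceF tabs.word letSel 9 1 46662 2222 = true := by decide +kernel
theorem perm_piece_4_22 : permPieceF tabs.word letSel 9 1 48884 2222 = true := by decide +kernel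
theorem perm_piece_4_23 : permPieceF tabs.word letSel 9 1 51106 2222 = true := by decide +kernel
theorem perm_piece_4_24 : permPieceF tabs.word letSel 9 1 53328 2222 = true := by decide +kernel
theorem perm_piece_4_25 : permPieceF tabs.word letSel 9 1 55550 2050 = true := by decide +kernel
end Cfsg.Agent.Helper28.S44A
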