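import Cfsg.Agent.Helper28.S44A.Data
set_option autoImplicit false
set_option maxRecDepth 1000000
namespace Cfsg.Agent.Helper28.S44A
open Cfsg.Agent.Helper28
theorem perm_piece_5_0 : permPieceF tabs.word letSel 10 1 0 3174 = true := by decide +kernel
theorem perm_piece_5_1 : permPieceF tabs.word letSel 10 1 3174 3174 = true := by decide +kernel
theorem perm_piece_5_2 : permPieceF tabs.word letSel 10 1 6348 3174 = true := by decide +kernel
theorem perm_piece_5_3 : permPieceF tabs.word letSel 10 1 9522 3174 = true := by decide +kernel
theorem perm_piece_5_4 : permPieceF tabs.word letSel 10 1 12696 3174 = true := by decide +kernel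
theorem perm_piece_5_5 : permPieceF tabs.word letSel 10 1 15870 3174 = true := by decide +kernel
theorem perm_piece_5_6 : permPieceF tabs.word letSel 10 1 19044 3174 = true := by decide +kernel
theorem perm_piece_5_7 : permPieceF tabs.word letSel 10 1 22218 3174 = true := by decide +kernel
end Cfsg.Agent.Helper28.S44A
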