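import Cfsg.Agent.Helper28.S44A.Data
set_option autoImplicit false
set_option maxRecDepth 1000000
namespace Cfsg.Agent.Helper28.S44A
open Cfsg.Agent.Helper28
theorem perm_piece_5_8 : permPieceF tabs.word letSel 10 1 25392 3174 = true := by decide +kernel
theorem perm_piece_5_9 : permPieceF tabs.word letSel 10 1 28566 3174 = true := by decide +kernel
theorem perm_piece_5_10 : permPieceF tabs.word letSel 10 1 31740 3174 = true := by decide +kernel
theorem perm_piece_5_11 : permPieceF tabs.word letSel 10 1 34914 3174 = true := by decide +kernel
theorem perm_piece_5_12 : permPieceF tabs.word letSel 10 1 38088 3174 = true := by decide +kernel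
theorem perm_piece_5_13 : permPieceF tabs.word letSel 10 1 41262 3174 = true := by decide +kernel
theorem perm_piece_5_14 : permPieceF tabs.word letSel 10 1 44436 3174 = true := by decide +kernel
theorem perm_piece_5_15 : permPieceF tabs.word letSel 10 1 47610 3174 = true := by decide +kernel
end Cfsg.Agent.Helper28.S44A
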