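import Cfsg.Agent.Helper28.S44A.F0
import Cfsg.Agent.Helper28.S44A.F1
import Cfsg.Agent.Helper28.S44A.F2
import Cfsg.Agent.Helper28.S44A.F3
import Cfsg.Agent.Helper28.S44A.F4
import Cfsg.Agent.Helper28.S44A.Fin0
import Cfsg.Agent.Helper28.S44A.Fin1
import Cfsg.Agent.Helper28.S44A.Fin2
import Cfsg.Agent.Helper28.S44A.Inv0
import Cfsg.Agent.Helper28.S44A.Misc0
import Cfsg.Agent.Helper28.S44A.P0
import Cfsg.Agent.Helper28.S44A.P1
import Cfsg.Agent.Helper28.S44A.P2
import Cfsg.Agent.Helper28.S44A.P3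
import Cfsg.Agent.Helper28.S44A.P4
import Cfsg.Agent.Helper28.S44A.P5
import Cfsg.Agent.Helper28.S44A.P6
import Cfsg.Agent.Helper28.S44A.P7
import Cfsg.Agent.Helper28.S44A.P8
import Cfsg.Agent.Helper28.S44A.P9
import Cfsg.Agent.Helper28.S44A.P10
import Cfsg.Agent.Helper28.S44A.P11
set_option autoImplicit false
namespace Cfsg.Agent.Helper28.S44A
open Cfsg.Agent.Helper28
theorem fin_upto0 : allLt (finRow tabs ptabs 172325) 2500 = true :=
  allLt_extend _ 0 2500 2500 rfl (allLt_zero _) fin_piece0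
theorem fin_upto1 : allLt (finRow tabs ptabs 172325) 5000 = true :=
  allLt_extend _ 2500 2500 5000 rfl fin_upto0 fin_piece1
theorem fin_upto2 : allLt (finRow tabs ptabs 172325) 7500 = true :=
  allLt_extend _ 5000 2500 7500 rfl fin_upto1 fin_piece2
theorem fin_upto3 : allLt (finRow tabs ptabs 172325) 10000 = true :=
  allLt_extend _ 7500 2500 10000 rfl fin_upto2 fin_piece3
theorem fin_upto4 : allLt (finRow tabs ptabs 172325) 12500 = true :=
  allLt_extend _ 10000 2500 12500 rfl fin_upto3 fin_piece4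
theorem fin_upto5 : allLt (finRow tabs ptabs 172325) 15000 = true :=
  allLt_extend _ 12500 2500 15000 rfl fin_upto4 fin_piece5
theorem fin_upto6 : allLt (finRow tabs ptabs 172325) 17500 = true :=
  allLt_extend _ 15000 2500 17500 rfl fin_upto5 fin_piece6
theorem fin_upto7 : allLt (finRow tabs ptabs 172325) 20000 = true :=
  allLt_extend _ 17500 2500 20000 rfl fin_upto6 fin_piece7
theorem fin_upto8 : allLt (finRow tabs ptabs 172325) 22500 = true :=
  allLt_extend _ 20000 2500 22500 rfl fin_upto7 fin_piece8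
theorem fin_upto9 : allLt (finRow tabs ptabs 172325) 25000 = true :=
  allLt_extend _ 22500 2500 25000 rfl fin_upto8 fin_piece9
theorem fin_upto10 : allLt (finRow tabs ptabs 172325) 27500 = true :=
  allLt_extend _ 25000 2500 27500 rfl fin_upto9 fin_piece10
theorem fin_upto11 : allLt (finRow tabs ptabs 172325) 30000 = true :=
  allLt_extend _ 27500 2500 30000 rfl fin_upto10 fin_piece11
theorem fin_upto12 : allLt (finRow tabs ptabs 172325) 32500 = true :=
  allLt_extend _ 30000 2500 32500 rfl fin_upto11 fin_piece12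
theorem fin_upto13 : allLt (finRow tabs ptabs 172325) 35000 = true :=
  allLt_extend _ 32500 2500 35000 rfl fin_upto12 fin_piece13
theorem fin_upto14 : allLt (finRow tabs ptabs 172325) 37500 = true :=
  allLt_extend _ 35000 2500 37500 rfl fin_upto13 fin_piece14
theorem fin_upto15 : allLt (finRow tabs ptabs 172325) 40000 = true :=
  allLt_extend _ 37500 2500 40000 rfl fin_upto14 fin_piece15
theorem fin_upto16 : allLt (finRow tabs ptabs 172325) 42500 = true :=
  allLt_extend _ 40000 2500 42500 rfl fin_upto15 fin_piece16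
theorem fin_upto17 : allLt (finRow tabs ptabs 172325) 45000 = true :=
  allLt_extend _ 42500 2500 45000 rfl fin_upto16 fin_piece17
theorem fin_upto18 : allLt (finRow tabs ptabs 172325) 47500 = true :=
  allLt_extend _ 45000 2500 47500 rfl fin_upto17 fin_piece18
theorem fin_upto19 : allLt (finRow tabs ptabs 172325) 50000 = true :=
  allLt_extend _ 47500 2500 50000 rfl fin_upto18 fin_piece19
theorem fin_upto20 : allLt (finRow tabs ptabs 172325) 52500 = true :=
  allLt_extend _ 50000 2500 52500 rfl fin_upto19 fin_piece20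
theorem fin_upto21 : allLt (finRow tabs ptabs 172325) 55000 = true :=
  allLt_extend _ 52500 2500 55000 rfl fin_upto20 fin_piece21
theorem fin_upto22 : allLt (finRow tabs ptabs 172325) 57500 = true :=
  allLt_extend _ 55000 2500 57500 rfl fin_upto21 fin_piece22
theorem fin_upto23 : allLt (finRow tabs ptabs 172325) 57600 = true :=
  allLt_extend _ 57500 100 57600 rfl fin_upto22 fin_piece23
theorem fin_ok : checkFin tabs ptabs 172325 = true := (checkFin_eq tabs ptabs 172325).trans fin_upto23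
theorem inv_upto0 : allLt (invRow ptabs) 10000 = true :=
  allLt_extend _ 0 10000 10000 rfl (allLt_zero _) inv_piece0
theorem inv_upto1 : allLt (invRow ptabs) 20000 = true :=
  allLt_extend _ 10000 10000 20000 rfl inv_upto0 inv_piece1
theorem inv_upto2 : allLt (invRow ptabs) 30000 = true :=
  allLt_extend _ 20000 10000 30000 rfl inv_upto1 inv_piece2
theorem inv_upto3 : allLt (invRow ptabs) 40000 = true :=
  allLt_extend _ 30000 10000 40000 rfl inv_upto2 inv_piece3
theorem inv_upto4 : allLt (invRow ptabs) 50000 = true :=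
  allLt_extend _ 40000 10000 50000 rfl inv_upto3 inv_piece4
theorem inv_upto5 : allLt (invRow ptabs) 57600 = true :=
  allLt_extend _ 50000 7600 57600 rfl inv_upto4 inv_piece5
theorem inv_ok : invOk ptabs = true := (invOk_eq ptabs).trans inv_upto5
theorem defs_upto0 : allLt (defOk tabs) 66666 = true :=
  allLt_extend _ 0 66666 66666 rfl (allLt_zero _) defs_piece0
theorem defs_upto1 : allLt (defOk tabs) 116230 = true :=
  allLt_extend _ 66666 49564 116230 rfl defs_upto0 defs_piece1
theorem defs_ok : checkDefs tabs = true := (checkDefs_eq tabs).trans defs_upto1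
theorem par_upto0 : allLt (parRow ptabs) 53333 = true :=
  allLt_extend _ 0 53333 53333 rfl (allLt_zero _) par_piece0
theorem par_upto1 : allLt (parRow ptabs) 57600 = true :=
  allLt_extend _ 53333 4267 57600 rfl par_upto0 par_piece1
theorem par_ok : parOk ptabs = true := (parOk_eq ptabs).trans par_upto1
theorem perm_g0_upto0 : TraceFix ptabs.perm tabs.word 1 5 44444 :=
  traceFix_extendF _ _ letSel perm_eq 1 5 0 44444 44444 rfl (traceFix_zero _ _ 1 5) perm_piece_0_0
theorem perm_g0_upto1 : TraceFix ptabs.perm tabs.word 1 5 57600 :=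
  traceFix_extendF _ _ letSel perm_eq 1 5 44444 13156 57600 rfl perm_g0_upto0 perm_piece_0_1
theorem perm_g0 : ∀ r, 1 ≤ r → r < 1 + 5 → relOk ptabs (tabs.word r) 0 ptabs.n = true :=
  relOk_of_traceFix ptabs tabs.word 1 5 perm_g0_upto1
theorem perm_g1_upto0 : TraceFix ptabs.perm tabs.word 6 1 8888 :=
  traceFix_extendF _ _ letSel perm_eq 6 1 0 8888 8888 rfl (traceFix_zero _ _ 6 1) perm_piece_1_0
theorem perm_g1_upto1 : TraceFix ptabs.perm tabs.word 6 1 17776 :=
  traceFix_extendF _ _ letSel perm_eq 6 1 8888 8888 17776 rfl perm_g1_upto0 perm_piece_1_1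
theorem perm_g1_upto2 : TraceFix ptabs.perm tabs.word 6 1 26664 :=
  traceFix_extendF _ _ letSel perm_eq 6 1 17776 8888 26664 rfl perm_g1_upto1 perm_piece_1_2
theorem perm_g1_upto3 : TraceFix ptabs.perm tabs.word 6 1 35552 :=
  traceFix_extendF _ _ letSel perm_eq 6 1 26664 8888 35552 rfl perm_g1_upto2 perm_piece_1_3
theorem perm_g1_upto4 : TraceFix ptabs.perm tabs.word 6 1 44440 :=
  traceFix_extendF _ _ letSel perm_eq 6 1 35552 8888 44440 rfl perm_g1_upto3 perm_piece_1_4
theorem perm_g1_upto5 : TraceFix ptabs.perm tabs.word 6 1 53328 :=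
  traceFix_extendF _ _ letSel perm_eq 6 1 44440 8888 53328 rfl perm_g1_upto4 perm_piece_1_5
theorem perm_g1_upto6 : TraceFix ptabs.perm tabs.word 6 1 57600 :=
  traceFix_extendF _ _ letSel perm_eq 6 1 53328 4272 57600 rfl perm_g1_upto5 perm_piece_1_6
theorem perm_g1 : ∀ r, 6 ≤ r → r < 6 + 1 → relOk ptabs (tabs.word r) 0 ptabs.n = true :=
  relOk_of_traceFix ptabs tabs.word 6 1 perm_g1_upto6
theorem perm_g2_upto0 : TraceFix ptabs.perm tabs.word 7 1 3703 :=
  traceFix_extendF _ _ letSel perm_eq 7 1 0 3703 3703 rfl (traceFix_zero _ _ 7 1) perm_piece_2_0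
theorem perm_g2_upto1 : TraceFix ptabs.perm tabs.word 7 1 7406 :=
  traceFix_extendF _ _ letSel perm_eq 7 1 3703 3703 7406 rfl perm_g2_upto0 perm_piece_2_1
theorem perm_g2_upto2 : TraceFix ptabs.perm tabs.word 7 1 11109 :=
  traceFix_extendF _ _ letSel perm_eq 7 1 7406 3703 11109 rfl perm_g2_upto1 perm_piece_2_2
theorem perm_g2_upto3 : TraceFix ptabs.perm tabs.word 7 1 14812 :=
  traceFix_extendF _ _ letSel perm_eq 7 1 11109 3703 14812 rfl perm_g2_upto2 perm_piece_2_3
theorem perm_g2_upto4 : TraceFix ptabs.perm tabs.word 7 1 18515 :=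
  traceFix_extendF _ _ letSel perm_eq 7 1 14812 3703 18515 rfl perm_g2_upto3 perm_piece_2_4
theorem perm_g2_upto5 : TraceFix ptabs.perm tabs.word 7 1 22218 :=
  traceFix_extendF _ _ letSel perm_eq 7 1 18515 3703 22218 rfl perm_g2_upto4 perm_piece_2_5
theorem perm_g2_upto6 : TraceFix ptabs.perm tabs.word 7 1 25921 :=
  traceFix_extendF _ _ letSel perm_eq 7 1 22218 3703 25921 rfl perm_g2_upto5 perm_piece_2_6
theorem perm_g2_upto7 : TraceFix ptabs.perm tabs.word 7 1 29624 :=
  traceFix_extendF _ _ letSel perm_eq 7 1 25921 3703 29624 rfl perm_g2_upto6 perm_piece_2_7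
theorem perm_g2_upto8 : TraceFix ptabs.perm tabs.word 7 1 33327 :=
  traceFix_extendF _ _ letSel perm_eq 7 1 29624 3703 33327 rfl perm_g2_upto7 perm_piece_2_8
theorem perm_g2_upto9 : TraceFix ptabs.perm tabs.word 7 1 37030 :=
  traceFix_extendF _ _ letSel perm_eq 7 1 33327 3703 37030 rfl perm_g2_upto8 perm_piece_2_9
theorem perm_g2_upto10 : TraceFix ptabs.perm tabs.word 7 1 40733 :=
  traceFix_extendF _ _ letSel perm_eq 7 1 37030 3703 40733 rfl perm_g2_upto9 perm_piece_2_10
theorem perm_g2_upto11 : TraceFix ptabs.perm tabs.word 7 1 44436 :=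
  traceFix_extendF _ _ letSel perm_eq 7 1 40733 3703 44436 rfl perm_g2_upto10 perm_piece_2_11
theorem perm_g2_upto12 : TraceFix ptabs.perm tabs.word 7 1 48139 :=
  traceFix_extendF _ _ letSel perm_eq 7 1 44436 3703 48139 rfl perm_g2_upto11 perm_piece_2_12
theorem perm_g2_upto13 : TraceFix ptabs.perm tabs.word 7 1 51842 :=
  traceFix_extendF _ _ letSel perm_eq 7 1 48139 3703 51842 rfl perm_g2_upto12 perm_piece_2_13
theorem perm_g2_upto14 : TraceFix ptabs.perm tabs.word 7 1 55545 :=
  traceFix_extendF _ _ letSel perm_eq 7 1 51842 3703 55545 rfl perm_g2_upto13 perm_piece_2_14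
theorem perm_g2_upto15 : TraceFix ptabs.perm tabs.word 7 1 57600 :=
  traceFix_extendF _ _ letSel perm_eq 7 1 55545 2055 57600 rfl perm_g2_upto14 perm_piece_2_15
theorem perm_g2 : ∀ r, 7 ≤ r → r < 7 + 1 → relOk ptabs (tabs.word r) 0 ptabs.n = true :=
  relOk_of_traceFix ptabs tabs.word 7 1 perm_g2_upto15
theorem perm_g3_upto0 : TraceFix ptabs.perm tabs.word 8 1 3703 :=
  traceFix_extendF _ _ letSel perm_eq 8 1 0 3703 3703 rfl (traceFix_zero _ _ 8 1) perm_piece_3_0
theorem perm_g3_upto1 : TraceFix ptabs.perm tabs.word 8 1 7406 :=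
  traceFix_extendF _ _ letSel perm_eq 8 1 3703 3703 7406 rfl perm_g3_upto0 perm_piece_3_1
theorem perm_g3_upto2 : TraceFix ptabs.perm tabs.word 8 1 11109 :=
  traceFix_extendF _ _ letSel perm_eq 8 1 7406 3703 11109 rfl perm_g3_upto1 perm_piece_3_2
theorem perm_g3_upto3 : TraceFix ptabs.perm tabs.word 8 1 14812 :=
  traceFix_extendF _ _ letSel perm_eq 8 1 11109 3703 14812 rfl perm_g3_upto2 perm_piece_3_3
theorem perm_g3_upto4 : TraceFix ptabs.perm tabs.word 8 1 18515 :=
  traceFix_extendF _ _ letSel perm_eq 8 1 14812 3703 18515 rfl perm_g3_upto3 perm_piece_3_4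
theorem perm_g3_upto5 : TraceFix ptabs.perm tabs.word 8 1 22218 :=
  traceFix_extendF _ _ letSel perm_eq 8 1 18515 3703 22218 rfl perm_g3_upto4 perm_piece_3_5
theorem perm_g3_upto6 : TraceFix ptabs.perm tabs.word 8 1 25921 :=
  traceFix_extendF _ _ letSel perm_eq 8 1 22218 3703 25921 rfl perm_g3_upto5 perm_piece_3_6
theorem perm_g3_upto7 : TraceFix ptabs.perm tabs.word 8 1 29624 :=
  traceFix_extendF _ _ letSel perm_eq 8 1 25921 3703 29624 rfl perm_g3_upto6 perm_piece_3_7
theorem perm_g3_upto8 : TraceFix ptabs.perm tabs.word 8 1 33327 :=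
  traceFix_extendF _ _ letSel perm_eq 8 1 29624 3703 33327 rfl perm_g3_upto7 perm_piece_3_8
theorem perm_g3_upto9 : TraceFix ptabs.perm tabs.word 8 1 37030 :=
  traceFix_extendF _ _ letSel perm_eq 8 1 33327 3703 37030 rfl perm_g3_upto8 perm_piece_3_9
theorem perm_g3_upto10 : TraceFix ptabs.perm tabs.word 8 1 40733 :=
  traceFix_extendF _ _ letSel perm_eq 8 1 37030 3703 40733 rfl perm_g3_upto9 perm_piece_3_10
theorem perm_g3_upto11 : TraceFix ptabs.perm tabs.word 8 1 44436 :=
  traceFix_extendF _ _ letSel perm_eq 8 1 40733 3703 44436 rfl perm_g3_upto10 perm_piece_3_11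
theorem perm_g3_upto12 : TraceFix ptabs.perm tabs.word 8 1 48139 :=
  traceFix_extendF _ _ letSel perm_eq 8 1 44436 3703 48139 rfl perm_g3_upto11 perm_piece_3_12
theorem perm_g3_upto13 : TraceFix ptabs.perm tabs.word 8 1 51842 :=
  traceFix_extendF _ _ letSel perm_eq 8 1 48139 3703 51842 rfl perm_g3_upto12 perm_piece_3_13
theorem perm_g3_upto14 : TraceFix ptabs.perm tabs.word 8 1 55545 :=
  traceFix_extendF _ _ letSel perm_eq 8 1 51842 3703 55545 rfl perm_g3_upto13 perm_piece_3_14
theorem perm_g3_upto15 : TraceFix ptabs.perm tabs.word 8 1 57600 :=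
  traceFix_extendF _ _ letSel perm_eq 8 1 55545 2055 57600 rfl perm_g3_upto14 perm_piece_3_15
theorem perm_g3 : ∀ r, 8 ≤ r → r < 8 + 1 → relOk ptabs (tabs.word r) 0 ptabs.n = true :=
  relOk_of_traceFix ptabs tabs.word 8 1 perm_g3_upto15
theorem perm_g4_upto0 : TraceFix ptabs.perm tabs.word 9 1 2222 :=
  traceFix_extendF _ _ letSel perm_eq 9 1 0 2222 2222 rfl (traceFix_zero _ _ 9 1) perm_piece_4_0
theorem perm_g4_upto1 : TraceFix ptabs.perm tabs.word 9 1 4444 :=
  traceFix_extendF _ _ letSel perm_eq 9 1 2222 2222 4444 rfl perm_g4_upto0 perm_piece_4_1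
theorem perm_g4_upto2 : TraceFix ptabs.perm tabs.word 9 1 6666 :=
  traceFix_extendF _ _ letSel perm_eq 9 1 4444 2222 6666 rfl perm_g4_upto1 perm_piece_4_2
theorem perm_g4_upto3 : TraceFix ptabs.perm tabs.word 9 1 8888 :=
  traceFix_extendF _ _ letSel perm_eq 9 1 6666 2222 8888 rfl perm_g4_upto2 perm_piece_4_3
theorem perm_g4_upto4 : TraceFix ptabs.perm tabs.word 9 1 11110 :=
  traceFix_extendF _ _ letSel perm_eq 9 1 8888 2222 11110 rfl perm_g4_upto3 perm_piece_4_4
theorem perm_g4_upto5 : TraceFix ptabs.perm tabs.word 9 1 13332 :=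
  traceFix_extendF _ _ letSel perm_eq 9 1 11110 2222 13332 rfl perm_g4_upto4 perm_piece_4_5
theorem perm_g4_upto6 : TraceFix ptabs.perm tabs.word 9 1 15554 :=
  traceFix_extendF _ _ letSel perm_eq 9 1 13332 2222 15554 rfl perm_g4_upto5 perm_piece_4_6
theorem perm_g4_upto7 : TraceFix ptabs.perm tabs.word 9 1 17776 :=
  traceFix_extendF _ _ letSel perm_eq 9 1 15554 2222 17776 rfl perm_g4_upto6 perm_piece_4_7
theorem perm_g4_upto8 : TraceFix ptabs.perm tabs.word 9 1 19998 :=
  traceFix_extendF _ _ letSel perm_eq 9 1 17776 2222 19998 rfl perm_g4_upto7 perm_piece_4_8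
theorem perm_g4_upto9 : TraceFix ptabs.perm tabs.word 9 1 22220 :=
  traceFix_extendF _ _ letSel perm_eq 9 1 19998 2222 22220 rfl perm_g4_upto8 perm_piece_4_9
theorem perm_g4_upto10 : TraceFix ptabs.perm tabs.word 9 1 24442 :=
  traceFix_extendF _ _ letSel perm_eq 9 1 22220 2222 24442 rfl perm_g4_upto9 perm_piece_4_10
theorem perm_g4_upto11 : TraceFix ptabs.perm tabs.word 9 1 26664 :=
  traceFix_extendF _ _ letSel perm_eq 9 1 24442 2222 26664 rfl perm_g4_upto10 perm_piece_4_11
theorem perm_g4_upto12 : TraceFix ptabs.perm tabs.word 9 1 28886 :=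
  traceFix_extendF _ _ letSel perm_eq 9 1 26664 2222 28886 rfl perm_g4_upto11 perm_piece_4_12
theorem perm_g4_upto13 : TraceFix ptabs.perm tabs.word 9 1 31108 :=
  traceFix_extendF _ _ letSel perm_eq 9 1 28886 2222 31108 rfl perm_g4_upto12 perm_piece_4_13
theorem perm_g4_upto14 : TraceFix ptabs.perm tabs.word 9 1 33330 :=
  traceFix_extendF _ _ letSel perm_eq 9 1 31108 2222 33330 rfl perm_g4_upto13 perm_piece_4_14
theorem perm_g4_upto15 : TraceFix ptabs.perm tabs.word 9 1 35552 :=
  traceFix_extendF _ _ letSel perm_eq 9 1 33330 2222 35552 rfl perm_g4_upto14 perm_piece_4_15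
theorem perm_g4_upto16 : TraceFix ptabs.perm tabs.word 9 1 37774 :=
  traceFix_extendF _ _ letSel perm_eq 9 1 35552 2222 37774 rfl perm_g4_upto15 perm_piece_4_16
theorem perm_g4_upto17 : TraceFix ptabs.perm tabs.word 9 1 39996 :=
  traceFix_extendF _ _ letSel perm_eq 9 1 37774 2222 39996 rfl perm_g4_upto16 perm_piece_4_17
theorem perm_g4_upto18 : TraceFix ptabs.perm tabs.word 9 1 42218 :=
  traceFix_extendF _ _ letSel perm_eq 9 1 39996 2222 42218 rfl perm_g4_upto17 perm_piece_4_18
theorem perm_g4_upto19 : TraceFix ptabs.perm tabs.word 9 1 44440 :=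
  traceFix_extendF _ _ letSel perm_eq 9 1 42218 2222 44440 rfl perm_g4_upto18 perm_piece_4_19
theorem perm_g4_upto20 : TraceFix ptabs.perm tabs.word 9 1 46662 :=
  traceFix_extendF _ _ letSel perm_eq 9 1 44440 2222 46662 rfl perm_g4_upto19 perm_piece_4_20
theorem perm_g4_upto21 : TraceFix ptabs.perm tabs.word 9 1 48884 :=
  traceFix_extendF _ _ letSel perm_eq 9 1 46662 2222 48884 rfl perm_g4_upto20 perm_piece_4_21
theorem perm_g4_upto22 : TraceFix ptabs.perm tabs.word 9 1 51106 :=
  traceFix_extendF _ _ letSel perm_eq 9 1 48884 2222 51106 rfl perm_g4_upto21 perm_piece_4_22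
theorem perm_g4_upto23 : TraceFix ptabs.perm tabs.word 9 1 53328 :=
  traceFix_extendF _ _ letSel perm_eq 9 1 51106 2222 53328 rfl perm_g4_upto22 perm_piece_4_23
theorem perm_g4_upto24 : TraceFix ptabs.perm tabs.word 9 1 55550 :=
  traceFix_extendF _ _ letSel perm_eq 9 1 53328 2222 55550 rfl perm_g4_upto23 perm_piece_4_24
theorem perm_g4_upto25 : TraceFix ptabs.perm tabs.word 9 1 57600 :=
  traceFix_extendF _ _ letSel perm_eq 9 1 55550 2050 57600 rfl perm_g4_upto24 perm_piece_4_25
theorem perm_g4 : ∀ r, 9 ≤ r → r < 9 + 1 → relOk ptabs (tabs.word r) 0 ptabs.n = true :=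
  relOk_of_traceFix ptabs tabs.word 9 1 perm_g4_upto25
theorem perm_g5_upto0 : TraceFix ptabs.perm tabs.word 10 1 3174 :=
  traceFix_extendF _ _ letSel perm_eq 10 1 0 3174 3174 rfl (traceFix_zero _ _ 10 1) perm_piece_5_0
theorem perm_g5_upto1 : TraceFix ptabs.perm tabs.word 10 1 6348 :=
  traceFix_extendF _ _ letSel perm_eq 10 1 3174 3174 6348 rfl perm_g5_upto0 perm_piece_5_1
theorem perm_g5_upto2 : TraceFix ptabs.perm tabs.word 10 1 9522 :=
  traceFix_extendF _ _ letSel perm_eq 10 1 6348 3174 9522 rfl perm_g5_upto1 perm_piece_5_2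
theorem perm_g5_upto3 : TraceFix ptabs.perm tabs.word 10 1 12696 :=
  traceFix_extendF _ _ letSel perm_eq 10 1 9522 3174 12696 rfl perm_g5_upto2 perm_piece_5_3
theorem perm_g5_upto4 : TraceFix ptabs.perm tabs.word 10 1 15870 :=
  traceFix_extendF _ _ letSel perm_eq 10 1 12696 3174 15870 rfl perm_g5_upto3 perm_piece_5_4
theorem perm_g5_upto5 : TraceFix ptabs.perm tabs.word 10 1 19044 :=
  traceFix_extendF _ _ letSel perm_eq 10 1 15870 3174 19044 rfl perm_g5_upto4 perm_piece_5_5
theorem perm_g5_upto6 : TraceFix ptabs.perm tabs.word 10 1 22218 :=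
  traceFix_extendF _ _ letSel perm_eq 10 1 19044 3174 22218 rfl perm_g5_upto5 perm_piece_5_6
theorem perm_g5_upto7 : TraceFix ptabs.perm tabs.word 10 1 25392 :=
  traceFix_extendF _ _ letSel perm_eq 10 1 22218 3174 25392 rfl perm_g5_upto6 perm_piece_5_7
theorem perm_g5_upto8 : TraceFix ptabs.perm tabs.word 10 1 28566 :=
  traceFix_extendF _ _ letSel perm_eq 10 1 25392 3174 28566 rfl perm_g5_upto7 perm_piece_5_8
theorem perm_g5_upto9 : TraceFix ptabs.perm tabs.word 10 1 31740 :=
  traceFix_extendF _ _ letSel perm_eq 10 1 28566 3174 31740 rfl perm_g5_upto8 perm_piece_5_9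
theorem perm_g5_upto10 : TraceFix ptabs.perm tabs.word 10 1 34914 :=
  traceFix_extendF _ _ letSel perm_eq 10 1 31740 3174 34914 rfl perm_g5_upto9 perm_piece_5_10
theorem perm_g5_upto11 : TraceFix ptabs.perm tabs.word 10 1 38088 :=
  traceFix_extendF _ _ letSel perm_eq 10 1 34914 3174 38088 rfl perm_g5_upto10 perm_piece_5_11
theorem perm_g5_upto12 : TraceFix ptabs.perm tabs.word 10 1 41262 :=
  traceFix_extendF _ _ letSel perm_eq 10 1 38088 3174 41262 rfl perm_g5_upto11 perm_piece_5_12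
theorem perm_g5_upto13 : TraceFix ptabs.perm tabs.word 10 1 44436 :=
  traceFix_extendF _ _ letSel perm_eq 10 1 41262 3174 44436 rfl perm_g5_upto12 perm_piece_5_13
theorem perm_g5_upto14 : TraceFix ptabs.perm tabs.word 10 1 47610 :=
  traceFix_extendF _ _ letSel perm_eq 10 1 44436 3174 47610 rfl perm_g5_upto13 perm_piece_5_14
theorem perm_g5_upto15 : TraceFix ptabs.perm tabs.word 10 1 50784 :=
  traceFix_extendF _ _ letSel perm_eq 10 1 47610 3174 50784 rfl perm_g5_upto14 perm_piece_5_15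
theorem perm_g5_upto16 : TraceFix ptabs.perm tabs.word 10 1 53958 :=
  traceFix_extendF _ _ letSel perm_eq 10 1 50784 3174 53958 rfl perm_g5_upto15 perm_piece_5_16
theorem perm_g5_upto17 : TraceFix ptabs.perm tabs.word 10 1 57132 :=
  traceFix_extendF _ _ letSel perm_eq 10 1 53958 3174 57132 rfl perm_g5_upto16 perm_piece_5_17
theorem perm_g5_upto18 : TraceFix ptabs.perm tabs.word 10 1 57600 :=
  traceFix_extendF _ _ letSel perm_eq 10 1 57132 468 57600 rfl perm_g5_upto17 perm_piece_5_18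
theorem perm_g5 : ∀ r, 10 ≤ r → r < 10 + 1 → relOk ptabs (tabs.word r) 0 ptabs.n = true :=
  relOk_of_traceFix ptabs tabs.word 10 1 perm_g5_upto18
theorem perm_g6_upto0 : TraceFix ptabs.perm tabs.word 11 1 5228 :=
  traceFix_extendF _ _ letSel perm_eq 11 1 0 5228 5228 rfl (traceFix_zero _ _ 11 1) perm_piece_6_0
theorem perm_g6_upto1 : TraceFix ptabs.perm tabs.word 11 1 10456 :=
  traceFix_extendF _ _ letSel perm_eq 11 1 5228 5228 10456 rfl perm_g6_upto0 perm_piece_6_1
theorem perm_g6_upto2 : TraceFix ptabs.perm tabs.word 11 1 15684 :=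
  traceFix_extendF _ _ letSel perm_eq 11 1 10456 5228 15684 rfl perm_g6_upto1 perm_piece_6_2
theorem perm_g6_upto3 : TraceFix ptabs.perm tabs.word 11 1 20912 :=
  traceFix_extendF _ _ letSel perm_eq 11 1 15684 5228 20912 rfl perm_g6_upto2 perm_piece_6_3
theorem perm_g6_upto4 : TraceFix ptabs.perm tabs.word 11 1 26140 :=
  traceFix_extendF _ _ letSel perm_eq 11 1 20912 5228 26140 rfl perm_g6_upto3 perm_piece_6_4
theorem perm_g6_upto5 : TraceFix ptabs.perm tabs.word 11 1 31368 :=
  traceFix_extendF _ _ letSel perm_eq 11 1 26140 5228 31368 rfl perm_g6_upto4 perm_piece_6_5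
theorem perm_g6_upto6 : TraceFix ptabs.perm tabs.word 11 1 36596 :=
  traceFix_extendF _ _ letSel perm_eq 11 1 31368 5228 36596 rfl perm_g6_upto5 perm_piece_6_6
theorem perm_g6_upto7 : TraceFix ptabs.perm tabs.word 11 1 41824 :=
  traceFix_extendF _ _ letSel perm_eq 11 1 36596 5228 41824 rfl perm_g6_upto6 perm_piece_6_7
theorem perm_g6_upto8 : TraceFix ptabs.perm tabs.word 11 1 47052 :=
  traceFix_extendF _ _ letSel perm_eq 11 1 41824 5228 47052 rfl perm_g6_upto7 perm_piece_6_8
theorem perm_g6_upto9 : TraceFix ptabs.perm tabs.word 11 1 52280 :=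
  traceFix_extendF _ _ letSel perm_eq 11 1 47052 5228 52280 rfl perm_g6_upto8 perm_piece_6_9
theorem perm_g6_upto10 : TraceFix ptabs.perm tabs.word 11 1 57508 :=
  traceFix_extendF _ _ letSel perm_eq 11 1 52280 5228 57508 rfl perm_g6_upto9 perm_piece_6_10
theorem perm_g6_upto11 : TraceFix ptabs.perm tabs.word 11 1 57600 :=
  traceFix_extendF _ _ letSel perm_eq 11 1 57508 92 57600 rfl perm_g6_upto10 perm_piece_6_11
theorem perm_g6 : ∀ r, 11 ≤ r → r < 11 + 1 → relOk ptabs (tabs.word r) 0 ptabs.n = true :=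
  relOk_of_traceFix ptabs tabs.word 11 1 perm_g6_upto11
theorem perm_all : ∀ r, 1 ≤ r → r < 12 → relOk ptabs (tabs.word r) 0 ptabs.n = true := by
  intro r h1 h2
  by_cases c0 : r < 6
  · exact perm_g0 r (by omega) (by omega)
  by_cases c1 : r < 7
  · exact perm_g1 r (by omega) (by omega)
  by_cases c2 : r < 8
  · exact perm_g2 r (by omega) (by omega)
  by_cases c3 : r < 9
  · exact perm_g3 r (by omega) (by omega)
  by_cases c4 : r < 10
  · exact perm_g4 r (by omega) (by omega)
  by_cases c5 : r < 11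
  · exact perm_g5 r (by omega) (by omega)
  by_cases c6 : r < 12
  · exact perm_g6 r (by omega) (by omega)
  omega
theorem subfix_all : ∀ r, r < 1 → relOk ptabs (tabs.word r) 0 1 = true := allLt_sound _ _ subfix_ok
end Cfsg.Agent.Helper28.S44A
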