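import Cfsg.Agent.Helper28.S44A.Data
set_option autoImplicit false
set_option maxRecDepth 1000000
namespace Cfsg.Agent.Helper28.S44A
open Cfsg.Agent.Helper28
theorem perm_piece_3_1 : permPieceF tabs.word letSel 8 1 3703 3703 = true := by decide +kernel
theorem perm_piece_3_2 : permPieceF tabs.word letSel 8 1 7406 3703 = true := by decide +kernel
theorem perm_piece_3_3 : permPieceF tabs.word letSel 8 1 11109 3703 = true := by decide +kernel
theorem perm_piece_3_4 : permPieceF tabs.word letSel 8 1 14812 3703 = true := by decide +kernel
theorem perm_piece_3_5 : permPieceF tabs.word letSel 8 1 18515 3703 = true := by decide +kernel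
theorem perm_piece_3_6 : permPieceF tabs.word letSel 8 1 22218 3703 = true := by decide +kernel
theorem perm_piece_3_7 : permPieceF tabs.word letSel 8 1 25921 3703 = true := by decide +kernel
theorem perm_piece_3_8 : permPieceF tabs.word letSel 8 1 29624 3703 = true := by decide +kernel
end Cfsg.Agent.Helper28.S44A
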